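import Cfsg.Agent.H706.PB.Defs
import Cfsg.Agent.H726.BD.Chev
import Cfsg.Agent.H116.RatB0.RowsFin

/-!
# S4884: the Steinberg character as a row (helper726)

* `real_of` : the Steinberg character gives `RowReal p S` (characteristic `r ≠ 2`) under the conditions of H116.RatB0.
* `real_chev` : `p ∣ q - 1`; `real_of_parOrd` : from the indices of the maximal parabolic subgroups.
* `real_{E8,E7,E6,F4,G2}_of_dvd`, `real_one_{E8,E7,E6,F4,G2}`.
-/

set_option autoImplicit false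
set_option linter.unusedSectionVars false

namespace Cfsg.Agent.H726.PB

open Cfsg.Agent.H706.PB (RowReal)

section Gen

open Cfsg CoxeterSystem Cfsg.Agent.ChevalleyStructure.CoxeterGeom Cfsg.Agent.Tits.Roots Cfsg.Agent.Tits.Core
  Cfsg.Agent.Tits.Exchange Cfsg.Agent.Nodes.Reps Cfsg.Agent.Nodes.BNOf Cfsg.Agent.Nodes.StabComb
  Cfsg.Agent.Nodes.Bruhat Cfsg.Agent.Nodes.OppDec Cfsg.Agent.Nodes.LeviDec Cfsg.Agent.Nodes.NormalForm
  Cfsg.Agent.KFacts.RgdOpp Cfsg.Agent.KFacts.RgdAut Cfsg.Agent.KFacts.RgdDiag Cfsg.Agent.H554.RG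
  Cfsg.Agent.H116.RatB0

universe u

variable {I W : Type*} {S : Type u} [Fintype I] [DecidableEq I] [Group W] [Group S] {M : CoxeterMatrix I}
  {cs : CoxeterSystem M W} {A : I → I → ℤ} {h : IsCartan M A} {r : ℕ} {T : Subgroup S} {n : I → S}
  {X : (I → ℤ) → Subgroup S} (R : RGD cs h r T n X)

include R

/-- **The Steinberg character as a row.** -/
theorem real_of [Finite W] [Finite S] [Nonempty I] [hr : Fact r.Prime] (hr2 : r ≠ 2) (hG : GG cs h T X = ⊤) {p : ℕ}
    [hp : Fact p.Prime] (hpr : p ≠ r) (hJ : ∀ J : Finset I, J ≠ Finset.univ → p ∣ (PJ cs h T X (J : Set I)).index ∨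
      reg p (PJ cs h T X (J : Set I)) ≡ reg p (⊤ : Subgroup S) [MOD p]) : RowReal p S := by
  intro M' hM
  obtain ⟨χ, h1, h2, h3, h4⟩ := exists_st R hG hpr hM hJ
  have h5 := one_lt_card_U R
  obtain ⟨Q, hQ⟩ := exists_sylow R hG
  obtain ⟨k, hk⟩ := IsPGroup.iff_card.1 Q.isPGroup'
  refine ⟨χ, h1, ?_, ?_, ?_, ?_⟩
  · intro h6
    have h7 : (charDegree (χ : S → ℂ) : ℂ) = (χ : S → ℂ) 1 := (Blocks.Knorr.charDegree_eq χ.2).symm
    rw [h3, h6] at h7
    have h7' : ((Nat.card (RGD.Sup X (RGD.Pos cs h)) : ℕ) : ℂ) = 1 := h7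
    have h8 : Nat.card (RGD.Sup X (RGD.Pos cs h)) = 1 := by exact_mod_cast h7'
    omega
  · rw [h3, ← hQ]
    intro h6
    rw [hk] at h6
    exact hr2 ((Nat.prime_dvd_prime_iff_eq Nat.prime_two hr.out).1 (Nat.prime_two.dvd_of_dvd_pow h6)).symm
  · rw [h3, ← hQ]
    intro h6
    rw [hk] at h6
    exact hpr ((Nat.prime_dvd_prime_iff_eq hp.out hr.out).1 (hp.out.dvd_of_dvd_pow h6))
  · intro g
    obtain ⟨z, hz⟩ := h2 g
    rw [hz, Complex.intCast_im]

/-- from the indices of the maximal parabolic subgroups -/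
theorem real_of_index [Finite W] [Finite S] [Nonempty I] [hr : Fact r.Prime] (hr2 : r ≠ 2) (hG : GG cs h T X = ⊤)
    {p : ℕ} [hp : Fact p.Prime] (hpr : p ≠ r) (hJ : ∀ k : I, p ∣ (PJ cs h T X {j | j ≠ k}).index) :
    RowReal p S := by
  refine real_of R hr2 hG hpr fun J hJ' => Or.inl ?_
  obtain ⟨k, hk⟩ : ∃ k, k ∉ J := by
    by_contra hcon
    push Not at hcon
    exact hJ' (Finset.eq_univ_iff_forall.2 hcon)
  refine (hJ k).trans (Subgroup.index_dvd_of_le (PJ_mono R ?_))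
  intro j hj hjk
  subst hjk
  exact hk hj

end Gen

section Par

open CoxeterSystem Cfsg.Agent.ChevalleyStructure.CoxeterGeom Cfsg.Agent.Tits.Roots Cfsg.Agent.Tits.Core
  Cfsg.Agent.Tits.RootComb Cfsg.Agent.Nodes.Reps Cfsg.Agent.Nodes.BNOf
  Cfsg.Agent.Nodes.StabComb Cfsg.Agent.Nodes.Bruhat Cfsg.Agent.Nodes.LeviDec Cfsg.Agent.H35.Poin
  Cfsg.Agent.H35.PoinNum Cfsg.Agent.H35.ExcIdx Cfsg.Agent.H134.StrP
  Cfsg.Agent.ChevalleyStructure.CoxeterGeomTypes Cfsg.Lie Cfsg.Agent.H116.RatB0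
open Cfsg.Agent.Nodes.RGDChev Cfsg.Agent.ChevalleyStructure.NPerm
open Cfsg

universe u

section

variable {D : ChevalleyDatum} {l : ℕ} {M : CoxeterMatrix (Fin l)} (hp : IsType D l M) (K : Type u) [Field K]
  [Fintype K] {r f : ℕ} (hr : r.Prime) (hf : f ≠ 0) (hK : Fintype.card K = r ^ f) [CharP K r]

include hr hf hK in
theorem real_of_parOrd [Nonempty (Fin l)] (hr2 : r ≠ 2) {g : ℕ} (hg : g ∣ r ^ f - 1)
    (hT : g * Nat.card (D.diagonalSubgroup K) = (r ^ f - 1) ^ D.rank) {dS : List ℕ} {N : ℕ}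
    (hdS : ∀ d ∈ dS, 0 < d ∧ d < N) (hS : ∃ b, g * Nat.card (D.group K) = r ^ b * pr (r ^ f) dS)
    {p m : ℕ} [hp' : Fact p.Prime] (hpr : p ≠ r) (hpm : (p : ℤ) ∣ E (r ^ f) m) (hm : m < N)
    (hall : ∀ k : Fin l, ∃ (J : List (Fin l)) (dJ : List ℕ), (∀ j, j ∈ J ↔ j ≠ k) ∧
      ((∀ (_ : Finite M.Group), RGD M.toCoxeterSystem hp.isCartan r (TT D K)
        (fun i => (⟨nn hp K i, nn_mem_group hp i⟩ : ↥(D.group K))) (XX D l K) →
        (∀ i, Nat.card (XX D l K (sr i)) = r ^ f) →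
        ParOrd M.toCoxeterSystem hp.isCartan (TT D K) (XX D l K) (r ^ f) l J dJ)) ∧
      (∀ d ∈ dJ, 0 < d ∧ d < N) ∧ (∀ m < N, cnt dJ m ≤ cnt dS m) ∧ cnt dJ m < cnt dS m) :
    RowReal p (D.group K) := by
  have : Fact r.Prime := ⟨hr⟩
  have hfin := finite_W hp M.toCoxeterSystem
  have hR := rgd (K := K) hp M.toCoxeterSystem r
  have h2 := two_le hr hf
  have hc : ∀ i, Nat.card (XX D l K (sr i)) = r ^ f := fun i => by
    rw [card_XX hp K M.toCoxeterSystem (isRoot_sr _ _ i), Nat.card_eq_fintype_card, hK]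
  refine real_of_index hR hr2 (GG_eq_top hp K _) hpr fun k => ?_
  obtain ⟨J, dJ, e1, e2, e3, e4, e5⟩ := hall k
  have h3 : ({j | j ≠ k} : Set (Fin l)) = {j | j ∈ J} := by
    ext j
    exact (e1 j).symm
  rw [h3]
  exact dvd_idx h2 hdS e3 (idx_of_parOrd hp K hr hf hK _ hg hT (fun d hd => (hdS d hd).1) hS (e2 hfin hR hc)) e4 hpm hm e5

end

variable {K : Type u} [Field K] [Fintype K] {p : ℕ} [Fact p.Prime] (hpK : (p : K) ≠ 0) (h2K : (2 : K) ≠ 0)

omit [Fintype K] in
theorem ne_two {r : ℕ} [CharP K r] (h : (2 : K) ≠ 0) : r ≠ 2 := by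
  rintro rfl
  exact h (by exact_mod_cast CharP.cast_eq_zero K 2)

include hpK h2K in
theorem real_E8_of_dvd {m : ℕ} (hm : m ∈ [2, 3, 4, 5, 6, 8, 10, 12, 15, 20, 24, 30])
    (hd : (p : ℤ) ∣ E (Fintype.card K) m) : RowReal p (chevE8.group K) := by
  obtain ⟨r, f, _, hr, hf, hK⟩ := exists_pow K
  rw [hK] at hd
  have h2 := two_le hr hf
  refine real_of_parOrd hpE8 K hr hf hK (ne_two h2K) (g := 1) (one_dvd _)
    (by rw [← hK]; exact Cfsg.Agent.S1035.result rfl (chevE8, 1) (by simp))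
    (dS := [2, 8, 12, 14, 18, 20, 24, 30]) (N := 31) (by decide) ⟨f * 120, ?_⟩ (ne_of_cast K hpK) hd ?_ ?_
  · have h3 := Cfsg.Agent.S1065.result hK
    rw [pow_mul]
    simp only [pr_cons, pr_nil]
    rw [one_mul, h3]
    ring
  · clear hd; revert m; decide
  · intro k
    fin_cases k
    · exact ⟨_, _, by decide, fun _ R hs => oE8_1234567 R h2 hs, by decide, by decide, by clear hd; revert m; decide⟩
    · exact ⟨_, _, by decide, fun _ R hs => oE8_0234567 R h2 hs, by decide, by decide, by clear hd; revert m; decide⟩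
    · exact ⟨_, _, by decide, fun _ R hs => oE8_0134567 R h2 hs, by decide, by decide, by clear hd; revert m; decide⟩
    · exact ⟨_, _, by decide, fun _ R hs => oE8_0124567 R h2 hs, by decide, by decide, by clear hd; revert m; decide⟩
    · exact ⟨_, _, by decide, fun _ R hs => oE8_0123567 R h2 hs, by decide, by decide, by clear hd; revert m; decide⟩
    · exact ⟨_, _, by decide, fun _ R hs => oE8_0123467 R h2 hs, by decide, by decide, by clear hd; revert m; decide⟩
    · exact ⟨_, _, by decide, fun _ R hs => oE8_0123457 R h2 hs, by decide, by decide, by clear hd; revert m; decide⟩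
    · exact ⟨_, _, by decide, fun _ R hs => oE8_0123456 R h2 hs, by decide, by decide, by clear hd; revert m; decide⟩

include hpK h2K in
theorem real_E7_of_dvd {m : ℕ} (hm : m ∈ [2, 6, 14, 18])
    (hd : (p : ℤ) ∣ E (Fintype.card K) m) : RowReal p (chevE7.group K) := by
  obtain ⟨r, f, _, hr, hf, hK⟩ := exists_pow K
  rw [hK] at hd
  have h2 := two_le hr hf
  refine real_of_parOrd hpE7 K hr hf hK (ne_two h2K) (g := Nat.gcd 2 (r ^ f - 1)) (Nat.gcd_dvd_right _ _)
    (by rw [← hK]; exact Cfsg.Agent.S1035.result rfl (chevE7, Nat.gcd 2 (Fintype.card K - 1)) (by simp))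
    (dS := [2, 6, 8, 10, 12, 14, 18]) (N := 31) (by decide) ⟨f * 63, ?_⟩ (ne_of_cast K hpK) hd ?_ ?_
  · have h3 := Cfsg.Agent.S1064.result hK
    rw [pow_mul]
    simp only [pr_cons, pr_nil]
    rw [h3]
    ring
  · clear hd; revert m; decide
  · intro k
    fin_cases k
    · exact ⟨_, _, by decide, fun _ R hs => oE7_123456 R h2 hs, by decide, by decide, by clear hd; revert m; decide⟩
    · exact ⟨_, _, by decide, fun _ R hs => oE7_023456 R h2 hs, by decide, by decide, by clear hd; revert m; decide⟩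
    · exact ⟨_, _, by decide, fun _ R hs => oE7_013456 R h2 hs, by decide, by decide, by clear hd; revert m; decide⟩
    · exact ⟨_, _, by decide, fun _ R hs => oE7_012456 R h2 hs, by decide, by decide, by clear hd; revert m; decide⟩
    · exact ⟨_, _, by decide, fun _ R hs => oE7_012356 R h2 hs, by decide, by decide, by clear hd; revert m; decide⟩
    · exact ⟨_, _, by decide, fun _ R hs => oE7_012346 R h2 hs, by decide, by decide, by clear hd; revert m; decide⟩
    · exact ⟨_, _, by decide, fun _ R hs => oE7_012345 R h2 hs, by decide, by decide, by clear hd; revert m; decide⟩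

include hpK h2K in
theorem real_E6_of_dvd {m : ℕ} (hm : m ∈ [3, 6, 9, 12])
    (hd : (p : ℤ) ∣ E (Fintype.card K) m) : RowReal p (chevE6.group K) := by
  obtain ⟨r, f, _, hr, hf, hK⟩ := exists_pow K
  rw [hK] at hd
  have h2 := two_le hr hf
  refine real_of_parOrd hpE6 K hr hf hK (ne_two h2K) (g := Nat.gcd 3 (r ^ f - 1)) (Nat.gcd_dvd_right _ _)
    (by rw [← hK]; exact Cfsg.Agent.S1035.result rfl (chevE6, Nat.gcd 3 (Fintype.card K - 1)) (by simp))
    (dS := [2, 5, 6, 8, 9, 12]) (N := 31) (by decide) ⟨f * 36, ?_⟩ (ne_of_cast K hpK) hd ?_ ?_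
  · have h3 := Cfsg.Agent.S1063.result hK
    rw [pow_mul]
    simp only [pr_cons, pr_nil]
    rw [h3]
    ring
  · clear hd; revert m; decide
  · intro k
    fin_cases k
    · exact ⟨_, _, by decide, fun _ R hs => oE6_12345 R h2 hs, by decide, by decide, by clear hd; revert m; decide⟩
    · exact ⟨_, _, by decide, fun _ R hs => oE6_02345 R h2 hs, by decide, by decide, by clear hd; revert m; decide⟩
    · exact ⟨_, _, by decide, fun _ R hs => oE6_01345 R h2 hs, by decide, by decide, by clear hd; revert m; decide⟩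
    · exact ⟨_, _, by decide, fun _ R hs => oE6_01245 R h2 hs, by decide, by decide, by clear hd; revert m; decide⟩
    · exact ⟨_, _, by decide, fun _ R hs => oE6_01235 R h2 hs, by decide, by decide, by clear hd; revert m; decide⟩
    · exact ⟨_, _, by decide, fun _ R hs => oE6_01234 R h2 hs, by decide, by decide, by clear hd; revert m; decide⟩

include hpK h2K in
theorem real_F4_of_dvd {m : ℕ} (hm : m ∈ [2, 3, 4, 6, 8, 12])
    (hd : (p : ℤ) ∣ E (Fintype.card K) m) : RowReal p (chevF4.group K) := by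
  obtain ⟨r, f, _, hr, hf, hK⟩ := exists_pow K
  rw [hK] at hd
  have h2 := two_le hr hf
  refine real_of_parOrd hpF4 K hr hf hK (ne_two h2K) (g := 1) (one_dvd _)
    (by rw [← hK]; exact Cfsg.Agent.S1035.result rfl (chevF4, 1) (by simp))
    (dS := [2, 6, 8, 12]) (N := 31) (by decide) ⟨f * 24, ?_⟩ (ne_of_cast K hpK) hd ?_ ?_
  · have h3 := Cfsg.Agent.S1062.result hK
    rw [pow_mul]
    simp only [pr_cons, pr_nil]
    rw [one_mul, h3]
    ring
  · clear hd; revert m; decide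
  · intro k
    fin_cases k
    · exact ⟨_, _, by decide, fun _ R hs => oF4_123 R h2 hs, by decide, by decide, by clear hd; revert m; decide⟩
    · exact ⟨_, _, by decide, fun _ R hs => oF4_023 R h2 hs, by decide, by decide, by clear hd; revert m; decide⟩
    · exact ⟨_, _, by decide, fun _ R hs => oF4_013 R h2 hs, by decide, by decide, by clear hd; revert m; decide⟩
    · exact ⟨_, _, by decide, fun _ R hs => oF4_012 R h2 hs, by decide, by decide, by clear hd; revert m; decide⟩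

include hpK h2K in
theorem real_G2_of_dvd {m : ℕ} (hm : m ∈ [2, 3, 6])
    (hd : (p : ℤ) ∣ E (Fintype.card K) m) : RowReal p (chevG2.group K) := by
  obtain ⟨r, f, _, hr, hf, hK⟩ := exists_pow K
  rw [hK] at hd
  have h2 := two_le hr hf
  refine real_of_parOrd hpG2 K hr hf hK (ne_two h2K) (g := 1) (one_dvd _)
    (by rw [← hK]; exact Cfsg.Agent.S1035.result rfl (chevG2, 1) (by simp))
    (dS := [2, 6]) (N := 31) (by decide) ⟨f * 6, ?_⟩ (ne_of_cast K hpK) hd ?_ ?_
  · have h3 := Cfsg.Agent.S1059.result hK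
    rw [pow_mul]
    simp only [pr_cons, pr_nil]
    rw [one_mul, h3]
    ring
  · clear hd; revert m; decide
  · intro k
    fin_cases k
    · exact ⟨_, _, by decide, fun _ R hs => oG2_1 R h2 hs, by decide, by decide, by clear hd; revert m; decide⟩
    · exact ⟨_, _, by decide, fun _ R hs => oG2_0 R h2 hs, by decide, by decide, by clear hd; revert m; decide⟩

end Par

section One

open CoxeterSystem Cfsg Cfsg.Lie Cfsg.Lie.ChevalleyDatum
open Cfsg.Agent.ChevalleyStructure Cfsg.Agent.ChevalleyStructure.Elts Cfsg.Agent.ChevalleyStructure.CoxeterGeom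
  Cfsg.Agent.ChevalleyStructure.CoxeterGeomTypes Cfsg.Agent.ChevalleyStructure.NPerm
open Cfsg.Agent.Tits.Roots Cfsg.Agent.Tits.Core Cfsg.Agent.Nodes Cfsg.Agent.Nodes.Reps Cfsg.Agent.Nodes.BNOf
  Cfsg.Agent.Nodes.RGDChev Cfsg.Agent.Nodes.Bruhat Cfsg.Agent.Nodes.NormalForm Cfsg.Agent.Nodes.StabComb
  Cfsg.Agent.Nodes.LeviDec
open Cfsg.Agent.KFacts.RgdField Cfsg.Agent.KFacts.RgdChevCoord Cfsg.Agent.BpExc.TorCent Cfsg.Agent.BpExc.TorChev
open Cfsg.Agent.BpExc.TowChev Cfsg.Agent.H129.TorusChar Cfsg.Agent.H932.BR Cfsg.Agent.H541.RatB0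

universe u

variable {D : ChevalleyDatum} {l : ℕ} {M : CoxeterMatrix (Fin l)} (hp : IsType D l M)
  {W : Type*} [Group W] (cs : CoxeterSystem M W) {K : Type u} [Field K] [Finite K]

include hp cs

/-- **`p ∣ q - 1`** (the proof of helper541) -/
theorem real_chev [Nonempty (Fin l)] {r : ℕ} [hrp' : Fact r.Prime] [hr : CharP K r] (hr2 : r ≠ 2) {p : ℕ} [hpp : Fact p.Prime] (hd : p ∣ Nat.card K - 1)
    {t : ℤ → Bool} (ht : ∀ d, t d = true → ¬ (p : ℤ) ∣ d) {S : List ℕ} (hS : ∀ s ∈ S, s < D.nroots)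
    (hgen : ∀ f : (Fin l → ℤ) →ₗ[ℤ] (Fin l → ℤ), (∀ s ∈ S, f (vec D l s) = vec D l s) → ∀ i, f (sr i) = sr i)
    (hchk : chk D t S = true) :
    RowReal p ↥(D.group K) := by
  classical
  unfold chk at hchk
  rw [Bool.and_eq_true, List.all_eq_true] at hchk
  obtain ⟨h1, h2⟩ := hchk
  have : Fintype K := Fintype.ofFinite K
  have := finite_W hp cs
  obtain ⟨n, -, hn⟩ := FiniteField.card K r
  have hq1 : 1 < Nat.card K := Finite.one_lt_card
  have hpr : p ≠ r := by
    rintro rfl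
    have h3 : p ∣ Nat.card K := by rw [Nat.card_eq_fintype_card, hn]; exact dvd_pow_self p n.ne_zero
    have h4 := Nat.dvd_sub h3 hd
    rw [Nat.sub_sub_self hq1.le] at h4
    exact hpp.out.one_lt.ne' (Nat.dvd_one.1 h4)
  -- a root of unity of order `p`
  have hdvd : p ∣ Nat.card Kˣ := by rw [Nat.card_units]; exact hd
  obtain ⟨z, hz⟩ := exists_prime_orderOf_dvd_card' (G := Kˣ) p hdvd
  have hζ0 : (z : K) ≠ 0 := z.ne_zero
  have hζ : (z : K) ^ p = 1 := by
    rw [← Units.val_pow_eq_pow_val, ← hz, pow_orderOf_eq_one, Units.val_one]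
  have hζz : ∀ m : ℤ, (z : K) ^ m = 1 → (p : ℤ) ∣ m := by
    intro m hm
    rw [← hz]
    apply orderOf_dvd_iff_zpow_eq_one.2
    apply Units.ext
    rw [Units.val_zpow_eq_zpow_val, hm, Units.val_one]
  have hcent : Subgroup.centralizer ((QQ hp K p : Subgroup ↥(D.group K)) : Set ↥(D.group K)) ≤ TT D K := by
    refine cent_le_TT hp cs r (fun x hx => hx.1) ?_ ?_
    · intro x hx
      obtain ⟨s, hs, rfl⟩ := (isRoot_iff hp cs x).1 hx
      obtain ⟨i, hi, h3⟩ := anyL_spec (allL_spec h1 s hs)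
      rw [hp.rank_eq] at hi
      refine ⟨hc hp ⟨i, hi⟩ (z : K), hc_mem_QQ hp hζ0 hζ _, ?_⟩
      rw [cX_hc hp _ hζ0, pairing_vec hp _ hs]
      exact fun h4 => ht _ h3 (hζz _ h4)
    · intro w hw
      have h3 : ∀ s ∈ S, rep cs hp.isCartan w (vec D l s) = vec D l s := by
        intro s hs
        have hs' := hS s hs
        obtain ⟨r', hr', he⟩ := (isRoot_iff hp cs _).1 ((isRoot_vec hp cs hs').act w)
        rw [← he]
        have h4 := allL_spec (h2 s hs) r' hr'
        rw [Bool.or_eq_true, beq_iff_eq] at h4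
        rcases h4 with h4 | h4
        · rw [h4]
        · exfalso
          obtain ⟨j, hj, h5⟩ := anyL_spec h4
          rw [hp.rank_eq] at hj
          refine ht _ h5 (hζz _ ?_)
          have h6 := hw _ (hc_mem_QQ hp hζ0 hζ ⟨j, hj⟩) (vec D l s)
          rw [← he, cX_hc hp _ hζ0, cX_hc hp _ hζ0, pairing_vec hp _ hr', pairing_vec hp _ hs'] at h6
          rw [zpow_sub₀ hζ0, h6, div_self (zpow_ne_zero _ hζ0)]
      exact eq_one_of_fix cs hp.isCartan w (hgen _ h3)
  have hR := rgd (K := K) hp cs r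
  have hGG := GG_top (K := K) hp cs
  have hQT : QQ hp K p ≤ TT D K := fun x hx => hx.1
  have hQp : IsPGroup p (QQ hp K p) := fun x => ⟨1, by
    rw [pow_one]
    exact Subtype.ext x.2.2⟩
  exact real_of hR hr2 hGG hpr fun _ _ => Or.inr (H116.RatB0.reg_modEq_of_le hQp
    ((hQT.trans RGD.T_le_B).trans B_le_PJ) (hcent.trans (RGD.T_le_B.trans B_le_PJ)))

omit cs [Finite K] in
theorem real_simp [Nonempty (Fin l)] [Fintype K] {p : ℕ} [hpp : Fact p.Prime] (h2K : (2 : K) ≠ 0)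
    (hp2 : p ≠ 2) (hd : p ∣ Fintype.card K - 1)
    (h : chk D t3 (simp D) = true ∧ chk D t5 (simp D) = true ∧ chk D t7 (simp D) = true) :
    RowReal p ↥(D.group K) := by
  obtain ⟨r, f, _, hr, hf, hK⟩ := H116.RatB0.exists_pow K
  have : Fact r.Prime := ⟨hr⟩
  obtain ⟨t, ht, ht'⟩ := exists_test hpp.out hp2
  have hchk : chk D t (simp D) = true := by
    rcases ht with rfl | rfl | rfl
    · exact h.1
    · exact h.2.1
    · exact h.2.2
  rw [← Nat.card_eq_fintype_card] at hd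
  refine real_chev hp M.toCoxeterSystem (ne_two h2K) hd ht' (S := simp D) ?_ ?_ hchk
  · intro s hs
    obtain ⟨i, hi, rfl⟩ := List.mem_map.1 hs
    rw [List.mem_range] at hi
    exact simple_lt hp.inList hi
  · intro f hf i
    have h1 := hf (D.simple i) (List.mem_map.2 ⟨i, List.mem_range.2 (lt_rank hp i), rfl⟩)
    rwa [vec_simple hp i] at h1

end One

section Rows

open Cfsg Cfsg.Lie Cfsg.Agent.H116.RatB0 Cfsg.Agent.H541.RatB0 Cfsg.Agent.H706.PB Cfsg.Agent.BpExc.TowChev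
open Cfsg.Agent.ChevalleyStructure.CoxeterGeomTypes Cfsg.Agent.Nodes.RGDChev

variable {K : Type} [Field K] [Fintype K] {p : ℕ} [hpp : Fact p.Prime]

/-- **G₂(q)**, `p ∣ q - 1` -/
theorem real_one_G2 (h2K : (2 : K) ≠ 0) (hp2 : p ≠ 2) (hd : p ∣ Fintype.card K - 1) : RowReal p (chevG2.group K) := by
  obtain ⟨r, f, _, hr, hf, hK⟩ := exists_pow K
  have : Fact r.Prime := ⟨hr⟩
  rw [← Nat.card_eq_fintype_card] at hd
  have hp : IsType chevG2 2 CoxeterMatrix.G₂ := by simp [IsType, typeList]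
  obtain ⟨t, ht, ht'⟩ := exists_test hpp.out hp2
  have hchk : chk chevG2 t [7, 8] = true := by
    rcases ht with rfl | rfl | rfl
    · exact chk_G2.1
    · exact chk_G2.2.1
    · exact chk_G2.2.2
  refine real_chev hp CoxeterMatrix.G₂.toCoxeterSystem (ne_two h2K) hd ht' (S := [7, 8]) ?_ ?_ hchk
  · intro s hs
    have : ∀ s ∈ [7, 8], s < chevG2.nroots := by decide
    exact this s hs
  · intro f hf
    have h7 := hf 7 (by simp)
    have h8 := hf 8 (by simp)
    rw [vec_G2.2] at h7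
    rw [vec_G2.1, map_add, h7] at h8
    intro i
    fin_cases i
    · exact h7
    · exact add_left_cancel h8

/-- **F₄(q)**, `p ∣ q - 1` -/
theorem real_one_F4 (h2K : (2 : K) ≠ 0) (hp2 : p ≠ 2) (hd : p ∣ Fintype.card K - 1) : RowReal p (chevF4.group K) :=
  real_simp (D := chevF4) (l := 4) (M := CoxeterMatrix.F₄) (by simp [IsType, typeList]) h2K hp2 hd chk_F4

/-- **E₆(q)**, `p ∣ q - 1` -/
theorem real_one_E6 (h2K : (2 : K) ≠ 0) (hp2 : p ≠ 2) (hd : p ∣ Fintype.card K - 1) : RowReal p (chevE6.group K) :=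
  real_simp (D := chevE6) (l := 6) (M := CoxeterMatrix.E₆) (by simp [IsType, typeList]) h2K hp2 hd chk_E6

/-- **E₇(q)**, `p ∣ q - 1` -/
theorem real_one_E7 (h2K : (2 : K) ≠ 0) (hp2 : p ≠ 2) (hd : p ∣ Fintype.card K - 1) : RowReal p (chevE7.group K) :=
  real_simp (D := chevE7) (l := 7) (M := CoxeterMatrix.E₇) (by simp [IsType, typeList]) h2K hp2 hd chk_E7

/-- **E₈(q)**, `p ∣ q - 1` -/
theorem real_one_E8 (h2K : (2 : K) ≠ 0) (hp2 : p ≠ 2) (hd : p ∣ Fintype.card K - 1) : RowReal p (chevE8.group K) :=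
  real_simp (D := chevE8) (l := 8) (M := CoxeterMatrix.E₈) (by simp [IsType, typeList]) h2K hp2 hd chk_E8

/-- **F₄(q)**, all odd primes `p ∤ q` -/
theorem real_F4 (hp2 : p ≠ 2) (hpK : (p : K) ≠ 0) (h2K : (2 : K) ≠ 0) (hG : p ∣ Nat.card ↥(chevF4.group K)) :
    RowReal p (chevF4.group K) := by
  have h2 := ord_mem_F4 hpK hG
  by_cases h4 : orderOf ((Fintype.card K : ℕ) : ZMod p) = 1
  · exact real_one_F4 h2K hp2 (dvd_of_ord_one Fintype.card_pos h4)
  · refine real_F4_of_dvd hpK h2K (m := orderOf ((Fintype.card K : ℕ) : ZMod p)) ?_ (dvd_E (not_dvd_card hpK))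
    clear hG
    generalize orderOf ((Fintype.card K : ℕ) : ZMod p) = d at h2 h4
    revert d
    decide

/-- **G₂(q)**, all odd primes `p ∤ q` -/
theorem real_G2 (hp2 : p ≠ 2) (hpK : (p : K) ≠ 0) (h2K : (2 : K) ≠ 0) (hG : p ∣ Nat.card ↥(chevG2.group K)) :
    RowReal p (chevG2.group K) := by
  have h2 := ord_mem_G2 hpK hG
  by_cases h4 : orderOf ((Fintype.card K : ℕ) : ZMod p) = 1
  · exact real_one_G2 h2K hp2 (dvd_of_ord_one Fintype.card_pos h4)
  · refine real_G2_of_dvd hpK h2K (m := orderOf ((Fintype.card K : ℕ) : ZMod p)) ?_ (dvd_E (not_dvd_card hpK))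
    clear hG
    generalize orderOf ((Fintype.card K : ℕ) : ZMod p) = d at h2 h4
    revert d
    decide

/-- **E₈(q)**, all odd primes `p ∤ q`, the order of `q` not in `[7, 9, 14, 18]` -/
theorem real_E8 (hp2 : p ≠ 2) (hpK : (p : K) ≠ 0) (h2K : (2 : K) ≠ 0) (hG : p ∣ Nat.card ↥(chevE8.group K))
    (h7 : orderOf ((Fintype.card K : ℕ) : ZMod p) ∉ [7, 9, 14, 18]) :
    RowReal p (chevE8.group K) := by
  have h2 := ord_mem_E8 hpK hG
  by_cases h4 : orderOf ((Fintype.card K : ℕ) : ZMod p) = 1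
  · exact real_one_E8 h2K hp2 (dvd_of_ord_one Fintype.card_pos h4)
  · refine real_E8_of_dvd hpK h2K (m := orderOf ((Fintype.card K : ℕ) : ZMod p)) ?_ (dvd_E (not_dvd_card hpK))
    clear hG
    generalize orderOf ((Fintype.card K : ℕ) : ZMod p) = d at h2 h4 h7
    revert d
    decide

/-- the field `g2` -/
theorem row_g2 (hp2 : p ≠ 2) : RowForR p (fun X _ => ∃ (F : Type) (_ : Field F) (_ : Fintype F), (p : F) ≠ 0 ∧
    (2 : F) ≠ 0 ∧ Nonempty (X ≃* Lie.chevG2.group F)) := by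
  intro X _ _ _ _ hd hX
  obtain ⟨F, _, _, hpF, h2F, ⟨e⟩⟩ := hX
  have hG : p ∣ Nat.card ↥(chevG2.group F) := by rwa [← Nat.card_congr e.toEquiv]
  exact RowReal.congr e (real_G2 hp2 hpF h2F hG)

/-- the field `f4` -/
theorem row_f4 (hp2 : p ≠ 2) : RowForR p (fun X _ => ∃ (F : Type) (_ : Field F) (_ : Fintype F), (p : F) ≠ 0 ∧
    (2 : F) ≠ 0 ∧ Nonempty (X ≃* Lie.chevF4.group F)) := by
  intro X _ _ _ _ hd hX
  obtain ⟨F, _, _, hpF, h2F, ⟨e⟩⟩ := hX
  have hG : p ∣ Nat.card ↥(chevF4.group F) := by rwa [← Nat.card_congr e.toEquiv]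
  exact RowReal.congr e (real_F4 hp2 hpF h2F hG)

end Rows

end Cfsg.Agent.H726.PB
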